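import Groth.Agent.TFun.Rank2

/-!
# Locally constant fibre rank: bases near a point
-/

set_option autoImplicit false
universe u
open TensorProduct Module Function

namespace Groth.Agent.LocFreeRank

variable {A : Type u} [CommRing A] (M : Type u) [AddCommGroup M] [Module A M]

/-- A map from a free module which is surjective near `x` and has `f`-torsion kernel gives a basis
after inverting `f`. -/
theorem bijective_away {n : ℕ} (v : (Fin n → A) →ₗ[A] M) {f : A} [Module.Finite A M]
    (hsupp : Module.support A (M ⧸ LinearMap.range v) ⊆ PrimeSpectrum.zeroLocus {f})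
    (hker : ∀ c ∈ LinearMap.ker v, ∃ k : ℕ, f ^ k • c = 0)
    {As : Type u} [CommRing As] [Algebra A As] {Ms : Type u} [AddCommGroup Ms] [Module A Ms] [Module As Ms]
    [IsScalarTower A As Ms] (g : M →ₗ[A] Ms) [IsLocalization.Away f As] [IsLocalizedModule.Away f g] :
    Bijective fun c : Fin n → As => ∑ i, c i • g (v (Pi.single i 1)) := by
  classical
  let T := Submonoid.powers f
  let gs : (Fin n → A) →ₗ[A] (Fin n → As) :=
    LinearMap.pi fun i => (Algebra.linearMap A As).comp (LinearMap.proj i)
  haveI : IsLocalizedModule T gs := IsLocalizedModule.pi T fun _ : Fin n => Algebra.linearMap A As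
  let Φ : (Fin n → As) →ₗ[As] Ms := Fintype.linearCombination As fun i => g (v (Pi.single i 1))
  have hΦ : ∀ c, Φ (gs c) = g (v c) := fun c => by
    conv_rhs => rw [pi_eq_sum_univ' c]
    simp [Φ, gs, Fintype.linearCombination_apply]
  have hf : f ∈ (Module.annihilator A (M ⧸ LinearMap.range v)).radical :=
    (PrimeSpectrum.zeroLocus_subset_zeroLocus_iff _ (Ideal.span {f})).1
      (by rw [← Module.support_eq_zeroLocus, PrimeSpectrum.zeroLocus_span]; exact hsupp)
      (Ideal.mem_span_singleton_self f)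
  obtain ⟨j, hj⟩ := hf
  have key : Bijective Φ := by
    constructor
    · rw [injective_iff_map_eq_zero]
      intro c hc
      obtain ⟨⟨c', t⟩, ht⟩ := IsLocalizedModule.surj T gs c
      have h0 : g (v c') = 0 := by
        rw [← hΦ, ← ht, Submonoid.smul_def, LinearMap.map_smul_of_tower, hc, smul_zero]
      obtain ⟨⟨_, l, rfl⟩, hl⟩ := (IsLocalizedModule.eq_zero_iff T g).1 h0
      obtain ⟨k, hk⟩ := hker (f ^ l • c') (by rw [LinearMap.mem_ker, map_smul]; exact hl)
      have h1 : gs c' = 0 := (IsLocalizedModule.eq_zero_iff T gs).2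
        ⟨⟨f ^ (k + l), k + l, rfl⟩, show f ^ (k + l) • c' = 0 by rw [pow_add, mul_smul]; exact hk⟩
      rw [← ht] at h1
      exact ((Module.End.isUnit_iff _).1 (IsLocalizedModule.map_units gs t)).1 (h1.trans (map_zero _).symm)
    · intro y
      obtain ⟨⟨m, t⟩, ht⟩ := IsLocalizedModule.surj T g y
      have hm : f ^ j • m ∈ LinearMap.range v := by
        have := Module.mem_annihilator.1 hj (Submodule.Quotient.mk m)
        rwa [← Submodule.Quotient.mk_smul, Submodule.Quotient.mk_eq_zero] at this
      obtain ⟨c, hc⟩ := hm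
      have hu : IsUnit (algebraMap A As (f ^ j * (t : A))) :=
        IsLocalization.map_units As (⟨f ^ j * t, T.mul_mem ⟨j, rfl⟩ t.2⟩ : T)
      refine ⟨(↑hu.unit⁻¹ : As) • gs c, ?_⟩
      rw [map_smul, hΦ, hc, map_smul, ← ht, Submonoid.smul_def, smul_smul, ← algebraMap_smul As (f ^ j * _) y,
        smul_smul, IsUnit.val_inv_mul, one_smul]
  simpa [Φ, Fintype.linearCombination_apply] using! key

/-- Surjectivity after base change outside the support of the cokernel. -/
theorem surjective_baseChange {n : ℕ} (v : (Fin n → A) →ₗ[A] M) {P : PrimeSpectrum A}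
    (hP : P ∉ Module.support A (M ⧸ LinearMap.range v)) :
    Surjective (v.baseChange (Localization.AtPrime P.asIdeal)) := by
  haveI : Subsingleton (Localization.AtPrime P.asIdeal ⊗[A] (M ⧸ LinearMap.range v)) := by
    rw [Module.notMem_support_iff] at hP
    exact (LocalizedModule.equivTensorProduct P.asIdeal.primeCompl (M ⧸ LinearMap.range v)).symm.toEquiv.subsingleton
  exact fun z => (lTensor_exact _ v.exact_map_mkQ_range (Submodule.mkQ_surjective _) z).1 (Subsingleton.elim _ _)

/-- Free localisations and locally constant fibre dimension: torsion kernel. -/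
theorem exists_pow_smul_eq_zero_of_free {n : ℕ} (v : (Fin n → A) →ₗ[A] M) {f : A} [Module.Finite A M]
    (hsupp : Module.support A (M ⧸ LinearMap.range v) ⊆ PrimeSpectrum.zeroLocus {f})
    (hfree : ∀ P : PrimeSpectrum A, f ∉ P.asIdeal →
      Module.Free (Localization.AtPrime P.asIdeal) (LocalizedModule P.asIdeal.primeCompl M))
    (hn : ∀ P : PrimeSpectrum A, f ∉ P.asIdeal → TFun.fibreDim M P = n) (c : Fin n → A) (hc : c ∈ LinearMap.ker v) :
    ∃ k : ℕ, f ^ k • c = 0 := by
  classical
  let I : Ideal A := LinearMap.ker (LinearMap.toSpanSingleton A (Fin n → A) c)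
  suffices f ∈ I.radical from this
  rw [Ideal.radical_eq_sInf, Ideal.mem_sInf]
  rintro J ⟨hIJ, hJ⟩
  by_contra hfJ
  let P : PrimeSpectrum A := ⟨J, hJ⟩
  let R := Localization.AtPrime P.asIdeal
  haveI : Module.Free R (R ⊗[A] M) :=
    haveI := hfree P hfJ
    Module.Free.of_equiv (LocalizedModule.equivTensorProduct P.asIdeal.primeCompl M)
  have hrank : Module.finrank R (R ⊗[A] M) = n := by
    rw [← hn P hfJ]
    refine Eq.trans ?_ (TensorProduct.AlgebraTensorModule.cancelBaseChange A R P.asIdeal.ResidueField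
      P.asIdeal.ResidueField M).finrank_eq
    exact (Module.finrank_baseChange (R := P.asIdeal.ResidueField)).symm
  let e : (R ⊗[A] M) ≃ₗ[R] R ⊗[A] (Fin n → A) :=
    LinearEquiv.ofFinrankEq _ _ (by rw [hrank, (TensorProduct.piScalarRight A R R (Fin n)).finrank_eq]; simp)
  have hsurj := surjective_baseChange M v (P := P) fun h => hfJ (hsupp h rfl)
  have hinj : Injective (v.baseChange R) := fun a b h =>
    OrzechProperty.injective_of_surjective_endomorphism (e.toLinearMap ∘ₗ v.baseChange R)
      (e.surjective.comp hsurj) (congrArg e h)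
  have h0 : (1 : R) ⊗ₜ[A] c = 0 := hinj (by
    rw [map_zero, LinearMap.baseChange_tmul, LinearMap.mem_ker.1 hc, tmul_zero])
  obtain ⟨s, hs⟩ : ∃ s : P.asIdeal.primeCompl, s • c = 0 := by
    haveI : IsLocalizedModule P.asIdeal.primeCompl (TensorProduct.mk A R (Fin n → A) 1) :=
      (isLocalizedModule_iff_isBaseChange P.asIdeal.primeCompl R _).2 (TensorProduct.isBaseChange _ _ _)
    exact (IsLocalizedModule.eq_zero_iff P.asIdeal.primeCompl (TensorProduct.mk A R (Fin n → A) 1)).1 h0
  exact s.2 (hIJ (show (s : A) • c = 0 from hs))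

/-- Reduced rings and locally constant fibre dimension: torsion kernel. -/
theorem exists_pow_smul_eq_zero_of_reduced [IsReduced A] {n : ℕ} (v : (Fin n → A) →ₗ[A] M) {f : A}
    [Module.Finite A M] (hsupp : Module.support A (M ⧸ LinearMap.range v) ⊆ PrimeSpectrum.zeroLocus {f})
    (hn : ∀ P : PrimeSpectrum A, f ∉ P.asIdeal → TFun.fibreDim M P = n) (c : Fin n → A) (hc : c ∈ LinearMap.ker v) :
    ∃ k : ℕ, f ^ k • c = 0 := by
  refine ⟨1, ?_⟩
  ext i
  rw [pow_one, Pi.smul_apply, smul_eq_mul, Pi.zero_apply]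
  apply IsNilpotent.eq_zero
  rw [nilpotent_iff_mem_prime]
  intro P hP
  by_cases hfP : f ∈ P
  · exact P.mul_mem_right _ hfP
  let κ := (⟨P, hP⟩ : PrimeSpectrum A).asIdeal.ResidueField
  have hy : (⟨P, hP⟩ : PrimeSpectrum A) ∉ Module.support A (M ⧸ LinearMap.range v) := fun h => hfP (hsupp h rfl)
  rw [Module.mem_support_iff_nontrivial_residueField_tensorProduct, not_nontrivial_iff_subsingleton] at hy
  have hs : Surjective (v.baseChange κ) := fun z =>
    (lTensor_exact κ v.exact_map_mkQ_range (Submodule.mkQ_surjective _) z).1 (Subsingleton.elim _ _)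
  have hdim : finrank κ (κ ⊗[A] (Fin n → A)) = finrank κ (κ ⊗[A] M) := by
    rw [(TensorProduct.piScalarRight A κ κ (Fin n)).finrank_eq, finrank_pi, Fintype.card_fin]
    exact (hn ⟨P, hP⟩ hfP).symm
  have hi : Injective (v.baseChange κ) :=
    (LinearMap.injective_iff_surjective_of_finrank_eq_finrank hdim).2 hs
  have h0 : (1 : κ) ⊗ₜ[A] c = 0 := hi (by
    rw [map_zero, LinearMap.baseChange_tmul, LinearMap.mem_ker.1 hc, tmul_zero])
  have h1 : algebraMap A κ (c i) = 0 := by
    have := congr(TensorProduct.piScalarRight A κ κ (Fin n) $h0 i)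
    simpa [Algebra.smul_def] using this
  exact P.mul_mem_left _ (Ideal.algebraMap_residueField_eq_zero.1 h1)

/-- A choice of generators at `x` and a basic neighbourhood with constant fibre dimension. -/
theorem exists_datum [Module.Finite A M] (h : IsLocallyConstant (TFun.fibreDim (A := A) M)) (x : PrimeSpectrum A) :
    ∃ (f : A) (n : ℕ) (v : (Fin n → A) →ₗ[A] M), f ∉ x.asIdeal ∧
      Module.support A (M ⧸ LinearMap.range v) ⊆ PrimeSpectrum.zeroLocus {f} ∧
      ∀ P : PrimeSpectrum A, f ∉ P.asIdeal → TFun.fibreDim M P = n := by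
  obtain ⟨v, hv⟩ := TFun.exists_generators M x
  have hU : IsOpen ((Module.support A (M ⧸ LinearMap.range v))ᶜ ∩ {y | TFun.fibreDim M y = TFun.fibreDim M x}) :=
    Module.isClosed_support.isOpen_compl.inter (h.isOpen_fiber _)
  obtain ⟨_, ⟨f, rfl⟩, hxf, hfU⟩ :=
    PrimeSpectrum.isTopologicalBasis_basic_opens.exists_subset_of_mem_open
      (show x ∈ _ ∩ {y | TFun.fibreDim M y = TFun.fibreDim M x} from ⟨hv, rfl⟩) hU
  refine ⟨f, _, v, hxf, fun P hP => ?_, fun P hP => (hfU hP).2⟩
  simp only [PrimeSpectrum.mem_zeroLocus, Set.singleton_subset_iff, SetLike.mem_coe]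
  by_contra hfP
  exact (hfU hfP).1 hP

end Groth.Agent.LocFreeRank
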