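import Groth.Agent.LocFreeRank.Alg
import Groth.Agent.FinLocFree.Push
import Groth.Agent.DCohPerf.FreeLocus
import Groth.Agent.QCohLib.FiniteType
import Groth.Agent.QCohLib.StalkLoc
import Groth.Agent.NegVanish.Syzygy

/-!
# Finite locally free modules and the fibre rank
-/

set_option autoImplicit false
set_option linter.style.haveILetI false
universe u
open CategoryTheory CategoryTheory.Limits AlgebraicGeometry TopologicalSpace Opposite TensorProduct

namespace Groth.Agent.LocFreeRank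

variable {X : Scheme.{u}} (M : X.Modules)

/-- The fibre rank of a module. -/
noncomputable abbrev rk (x : X) : ℕ :=
  Module.finrank (IsLocalRing.ResidueField (X.presheaf.stalk x))
    (TensorProduct (X.presheaf.stalk x) (IsLocalRing.ResidueField (X.presheaf.stalk x)) (M.presheaf.stalk x))

theorem rk_eq_fibreDim [M.IsQuasicoherent] {U : X.Opens} (hU : IsAffineOpen U) (x : X) (hx : x ∈ U) :
    rk M x = TFun.fibreDim Γ(M, U) (hU.primeIdealOf ⟨x, hx⟩) := by
  let p := (hU.primeIdealOf ⟨x, hx⟩).asIdeal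
  letI := TopCat.Presheaf.algebra_section_stalk X.presheaf ⟨x, hx⟩
  haveI : IsLocalization.AtPrime (X.presheaf.stalk x) p := hU.isLocalization_stalk ⟨x, hx⟩
  letI := QCohLib.germModule M x hx
  haveI : IsScalarTower Γ(X, U) (X.presheaf.stalk x) (M.presheaf.stalk x) :=
    IsScalarTower.of_algebraMap_smul fun _ _ => rfl
  haveI := QCohLib.isLocalizedModule_germ (M := M) hU x hx
  have hbc := IsLocalizedModule.isBaseChange p.primeCompl (X.presheaf.stalk x) (QCohLib.germLinearMap M x hx)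
  let κ := IsLocalRing.ResidueField (X.presheaf.stalk x)
  let φ : p.ResidueField →+* κ := Ideal.ResidueField.lift p
    ((IsLocalRing.residue _).comp (algebraMap Γ(X, U) (X.presheaf.stalk x)))
    (fun a ha => (IsLocalRing.residue_eq_zero_iff _).2
      ((IsLocalization.AtPrime.to_map_mem_maximal_iff (X.presheaf.stalk x) p a).2 ha))
    (fun a ha => ((IsLocalization.map_units (X.presheaf.stalk x) (⟨a, ha⟩ : p.primeCompl)).map
      (IsLocalRing.residue _)))
  letI : Algebra p.ResidueField κ := φ.toAlgebra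
  haveI : IsScalarTower Γ(X, U) p.ResidueField κ := .of_algebraMap_eq fun a =>
    (Ideal.ResidueField.lift_algebraMap _ _ _ _ a).symm
  calc rk M x = Module.finrank κ (κ ⊗[Γ(X, U)] Γ(M, U)) :=
        ((TensorProduct.AlgebraTensorModule.congr (LinearEquiv.refl κ κ) hbc.equiv.symm).trans
          (TensorProduct.AlgebraTensorModule.cancelBaseChange Γ(X, U) (X.presheaf.stalk x) κ κ Γ(M, U))).finrank_eq
    _ = Module.finrank κ (κ ⊗[p.ResidueField] (p.ResidueField ⊗[Γ(X, U)] Γ(M, U))) :=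
        (TensorProduct.AlgebraTensorModule.cancelBaseChange Γ(X, U) p.ResidueField κ κ Γ(M, U)).finrank_eq.symm
    _ = _ := Module.finrank_baseChange (R := κ)

theorem continuous_primeIdealOf {U : X.Opens} (hU : IsAffineOpen U) : Continuous hU.primeIdealOf := by
  refine hU.fromSpec.isOpenEmbedding.isInducing.continuous_iff.2 ?_
  have : hU.fromSpec.base ∘ hU.primeIdealOf = Subtype.val := funext fun z => hU.fromSpec_primeIdealOf z
  rw [this]
  exact continuous_subtype_val

theorem isFinLocFree_of_kernels [M.IsQuasicoherent] (hM : CohB1.IsFT M) (hrk : IsLocallyConstant (rk M))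
    (hker : ∀ (U : X.Opens), IsAffineOpen U → ∀ (n : ℕ) (v : (Fin n → Γ(X, U)) →ₗ[Γ(X, U)] Γ(M, U)) (f : Γ(X, U)),
      Module.support Γ(X, U) (Γ(M, U) ⧸ LinearMap.range v) ⊆ PrimeSpectrum.zeroLocus {f} →
      (∀ P : PrimeSpectrum Γ(X, U), f ∉ P.asIdeal → TFun.fibreDim Γ(M, U) P = n) →
      ∀ c ∈ LinearMap.ker v, ∃ k : ℕ, f ^ k • c = 0) :
    FlatMod.IsFinLocFree M := by
  intro x
  obtain ⟨U, hU, hxU, -⟩ := exists_isAffineOpen_mem_and_subset (X := X) (x := x) (U := ⊤) (Set.mem_univ _)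
  haveI : Module.Finite Γ(X, U) Γ(M, U) := QCohLib.finite_sections M hM hU
  have hmem : ∀ P : Spec Γ(X, U), hU.fromSpec P ∈ U := fun P => by
    have h0 : hU.fromSpec P ∈ Set.range hU.fromSpec := ⟨P, rfl⟩
    rwa [hU.range_fromSpec] at h0
  have hfd : TFun.fibreDim (A := Γ(X, U)) Γ(M, U) = rk M ∘ hU.fromSpec.base := by
    funext P
    have hP : hU.primeIdealOf ⟨_, hmem P⟩ = P :=
      hU.fromSpec.isOpenEmbedding.injective (hU.fromSpec_primeIdealOf ⟨_, hmem P⟩)
    rw [Function.comp_apply, rk_eq_fibreDim M hU _ (hmem P), hP]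
  have hlc : IsLocallyConstant (TFun.fibreDim (A := Γ(X, U)) Γ(M, U)) := by
    rw [hfd]; exact hrk.comp_continuous hU.fromSpec.continuous
  obtain ⟨f, n, v, hf, hsupp, hn⟩ := exists_datum Γ(M, U) hlc (hU.primeIdealOf ⟨x, hxU⟩)
  let := QCohLib.resModule M (X.basicOpen_le f)
  have := QCohLib.resModule_tower M (f := f)
  have := hU.isLocalization_basicOpen f
  have := QCohLib.isLocalizedModule_res M hU f
  exact ⟨X.basicOpen f, n, (QCohLib.mem_basicOpen_iff_notMem_primeIdealOf hU hxU f).2 hf,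
    FinLocFree.nonempty_restrict_iso_free (hU.basicOpen f) _
      (bijective_away Γ(M, U) v hsupp (hker U hU n v f hsupp hn) (As := Γ(X, X.basicOpen f))
        (QCohLib.resLinearMap M (X.basicOpen_le f)))⟩

theorem isFinLocFree_of_reduced [IsReduced X] [M.IsQuasicoherent] (hM : CohB1.IsFT M)
    (hrk : IsLocallyConstant (rk M)) : FlatMod.IsFinLocFree M :=
  isFinLocFree_of_kernels M hM hrk fun U hU n v f hsupp hn c hc => by
    haveI := QCohLib.finite_sections M hM hU
    exact exists_pow_smul_eq_zero_of_reduced _ v hsupp hn c hc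

theorem isFinLocFree_of_free_stalks [M.IsQuasicoherent] (hM : CohB1.IsFT M)
    (hfree : ∀ x : X, Module.Free (X.presheaf.stalk x) (M.presheaf.stalk x))
    (hrk : IsLocallyConstant (rk M)) : FlatMod.IsFinLocFree M :=
  isFinLocFree_of_kernels M hM hrk fun U hU n v f hsupp hn c hc => by
    haveI := QCohLib.finite_sections M hM hU
    refine exists_pow_smul_eq_zero_of_free _ v hsupp (fun P _ => ?_) hn c hc
    have hmem : hU.fromSpec P ∈ U := by
      have h0 : hU.fromSpec P ∈ Set.range hU.fromSpec := ⟨P, rfl⟩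
      rwa [hU.range_fromSpec] at h0
    have hP : hU.primeIdealOf ⟨_, hmem⟩ = P :=
      hU.fromSpec.isOpenEmbedding.injective (hU.fromSpec_primeIdealOf ⟨_, hmem⟩)
    have hfin : Module.Finite (X.presheaf.stalk (hU.fromSpec P)) (M.presheaf.stalk (hU.fromSpec P)) :=
      NegVanish.finite_stalk ⟨inferInstance, hM⟩ _
    have := ((DCohPerf.free_stalk_iff hU hmem).1 ⟨hfree _, hfin⟩).1
    rwa [hP] at this

theorem of_isFinLocFree (h : FlatMod.IsFinLocFree M) :
    CohB1.IsFT M ∧ (∀ x : X, Module.Free (X.presheaf.stalk x) (M.presheaf.stalk x)) ∧ IsLocallyConstant (rk M) := by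
  have hc := QCohLib.isCoh_of_isFP (DCohPerf.isFP_finLocFree h)
  haveI := hc.1
  have hl : ∀ U : X.Opens, FlatMod.IsFinLocFree ((DCohPerf.rF U.ι).obj M) := fun U => DCohPerf.isFinLocFree_restrict h _
  refine ⟨hc.2, fun x => (DCohPerf.free_stalk_of_finLocFree (hl ⊤) (x := x) trivial).1, ?_⟩
  rw [IsLocallyConstant.iff_exists_open]
  intro x
  obtain ⟨U, hU, hxU, -⟩ := exists_isAffineOpen_mem_and_subset (X := X) (x := x) (U := ⊤) (Set.mem_univ _)
  haveI : IsOpenImmersion hU.isoSpec.inv := inferInstance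
  obtain ⟨hfin, hproj⟩ := DCohPerf.projective_sections_of_finLocFree (M := M) (W := U) (hl U) hU hU.isoSpec.inv rfl
  haveI := hfin
  haveI := hproj
  haveI := Module.finitePresentation_of_projective Γ(X, U) Γ(M, U)
  obtain ⟨O, hO, hxO, hconst⟩ := ((TFun.isLocallyConstant_fibreDim_of_flat (A := Γ(X, U)) Γ(M, U)).comp_continuous
    (continuous_primeIdealOf hU)).exists_open ⟨x, hxU⟩
  refine ⟨Subtype.val '' O, U.2.isOpenMap_subtype_val O hO, ⟨⟨x, hxU⟩, hxO, rfl⟩, ?_⟩
  rintro _ ⟨⟨y, hyU⟩, hyO, rfl⟩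
  rw [rk_eq_fibreDim M hU y hyU, rk_eq_fibreDim M hU x hxU]
  exact hconst _ hyO

end Groth.Agent.LocFreeRank
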